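import Cfsg.Agent.H773.Pw.Spor
import Cfsg.Agent.H715.Fpr.MathData
import Cfsg.Agent.H121.Cyc.Mathieu

/-!
# S2454, rows of the Mathieu groups (task 3447)

`pw_M11`, `pw_M12`, `pw_M22`, `pw_M23`, `pw_M24` : every element is a product of 70 `p`-elements; the sharper forms
`pw10_*`, `pw3_M23`, `pw7_M23`.
-/

set_option autoImplicit false

namespace Cfsg.Agent.H813.PwMath

open Cfsg Subgroup Cfsg.Agent.H514.DP Cfsg.Agent.H773.Pw
open Cfsg.Agent.SporadicStructure.M24El Cfsg.Agent.SporadicA.GolayPerm Cfsg.Agent.H729.MData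
open Cfsg.Agent.SporadicA.GolayBase Cfsg.Agent.OrdDiv
open Cfsg.Agent.H715.Fpr.MathData Cfsg.Agent.H940.Eng.D

section General

variable {G : Type} [Group G] [Finite G] [IsSimpleGroup G]

omit [IsSimpleGroup G] [Finite G] in
theorem cent_of_cn {r C m : ℕ}
    (h : ∀ R : Subgroup G, Nat.card R = r → Nat.card (centralizer (R : Set G)) = C ∧ Nat.card (normalizer (R : Set G)) = m)
    {y : G} (hy : orderOf y = r) : Nat.card (centralizer ({y} : Set G)) = C := by
  rw [← Cfsg.Agent.H715.Fpr.cent_zpowers']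
  exact (h (zpowers y) (by rw [Nat.card_zpowers, hy])).1

/-- `p` dividing `|N(R) : C(R)|` -/
theorem pw_of_cn (hna : ¬ ∀ a b : G, a * b = b * a) {p r C m D k N : ℕ} (hp : p.Prime) (hr : r.Prime)
    (hd : r ∣ Nat.card G)
    (h : ∀ R : Subgroup G, Nat.card R = r → Nat.card (centralizer (R : Set G)) = C ∧ Nat.card (normalizer (R : Set G)) = m)
    (hC0 : 0 < C) (hpm : C * p ∣ m) (hD : MinDeg G D) (hk : 3 ≤ k) (hC : (C - 1) ^ k < D ^ (2 * k - 4))
    (hN : 2 * k ≤ N) : PW p N G := by
  obtain ⟨y, hy⟩ := exists_order hr hd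
  obtain ⟨h1, h2⟩ := h (zpowers y) (by rw [Nat.card_zpowers, hy])
  have h3 := Subgroup.relIndex_mul_relIndex ⊥ (centralizer (zpowers y : Set G)) (normalizer (zpowers y : Set G)) bot_le
    (centralizer_le_normalizer _)
  rw [relIndex_bot_left, relIndex_bot_left, h1, h2] at h3
  refine pw_of_pe hna (pe_two_of_dvd hp (hy.symm ▸ hr) ?_) hD (cent_of_cn h hy).le hk hC hN
  rw [← h3] at hpm
  exact Nat.dvd_of_mul_dvd_mul_left hC0 hpm

/-- the prime itself -/
theorem pw_of_self (hna : ¬ ∀ a b : G, a * b = b * a) {r C m D k N : ℕ} (hr : r.Prime) (hd : r ∣ Nat.card G)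
    (h : ∀ R : Subgroup G, Nat.card R = r → Nat.card (centralizer (R : Set G)) = C ∧ Nat.card (normalizer (R : Set G)) = m)
    (hD : MinDeg G D) (hk : 3 ≤ k) (hC : (C - 1) ^ k < D ^ (2 * k - 4)) (hN : k ≤ N) : PW r N G := by
  obtain ⟨y, hy⟩ := exists_order hr hd
  exact pw_of_pe hna (IsPE.of_prime hy).pe hD (cent_of_cn h hy).le hk hC (by omega)

/-- an element of order 11 which is a product of two elements of order 3 -/
theorem pw_three (hna : ¬ ∀ a b : G, a * b = b * a) {C m D : ℕ}
    (h : ∀ R : Subgroup G, Nat.card R = 11 → Nat.card (centralizer (R : Set G)) = C ∧ Nat.card (normalizer (R : Set G)) = m)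
    (hD : MinDeg G D) (hC : (C - 1) ^ 5 < D ^ 6) {a b : G} (ha : a ^ 3 = 1) (hb : b ^ 3 = 1)
    (hab : orderOf (a * b) = 11) : PW 3 10 G := by
  have h1 : PE 3 2 (a * b) := (IsPE.pe ⟨1, by rw [pow_one, ha]⟩).mul (IsPE.pe ⟨1, by rw [pow_one, hb]⟩)
  exact pw_of_pe hna h1 hD (cent_of_cn h hab).le (by norm_num : 3 ≤ 5) hC (by norm_num)

end General

/-! ### the elements of order three -/

def ca : ℕ := 975674583956380680074194843309555968
def cb : ℕ := 981759386190175716564125263593507904
def cc : ℕ := 964902099484683485417360717079907840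

theorem oka : ok ca = true := by decide +kernel
theorem okb : ok cb = true := by decide +kernel
theorem okc : ok cc = true := by decide +kernel
theorem hab : Nat.beq (pcomp ca cb) cc = true := by decide +kernel
theorem ha3 : el ca ^ 3 = 1 := Cfsg.Agent.H729.M24Deg.el_pow_eq_one oka (by decide +kernel)
theorem hb3 : el cb ^ 3 = 1 := Cfsg.Agent.H729.M24Deg.el_pow_eq_one okb (by decide +kernel)
theorem hc11 : orderOf (el ca * el cb) = 11 := by
  have := Fact.mk (by norm_num : Nat.Prime 11)
  rw [← el_pcomp oka okb, Nat.eq_of_beq_eq_true hab]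
  exact orderOf_eq_prime (Cfsg.Agent.H729.M24Deg.el_pow_eq_one okc (by decide +kernel))
    (Cfsg.Agent.H729.M24Deg.el_ne_one okc 1 (by norm_num) (by decide +kernel))

theorem fix_el {c i : ℕ} (hc : ok c = true) (hi : i < 24) (h1 : papp c i = i) :
    (el c : Equiv.Perm GolayPt) (pt i) = pt i := by
  have h := el_smul_pt hc (pt i)
  rw [idx_pt hi, h1] at h
  exact h

/-- transfer of the elements of order three to a subgroup -/
theorem three_of {G : Type} [Group G] (φ : G →* M24) (hφ : Function.Injective φ) {x y : G} (hx : φ x = el ca)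
    (hy : φ y = el cb) : x ^ 3 = 1 ∧ y ^ 3 = 1 ∧ orderOf (x * y) = 11 := by
  refine ⟨hφ ?_, hφ ?_, ?_⟩
  · rw [map_pow, hx, ha3, map_one]
  · rw [map_pow, hy, hb3, map_one]
  · rw [← orderOf_injective φ hφ, map_mul, hx, hy, hc11]

theorem a12 : (el ca : Equiv.Perm GolayPt) ∈ Spor.M12 := H729.PairMathieu.mem_stab oka (by decide +kernel)
theorem b12 : (el cb : Equiv.Perm GolayPt) ∈ Spor.M12 := H729.PairMathieu.mem_stab okb (by decide +kernel)
theorem a0 : (el ca : Equiv.Perm GolayPt) (some 0) = some 0 := fix_el (i := 0) oka (by norm_num) (by decide +kernel)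
theorem b0 : (el cb : Equiv.Perm GolayPt) (some 0) = some 0 := fix_el (i := 0) okb (by norm_num) (by decide +kernel)
theorem an : (el ca : Equiv.Perm GolayPt) none = none := fix_el (i := 23) oka (by norm_num) (by decide +kernel)
theorem bn : (el cb : Equiv.Perm GolayPt) none = none := fix_el (i := 23) okb (by norm_num) (by decide +kernel)

theorem prime_mem {p : ℕ} (hp : p.Prime) (l : List ℕ) (hl : ∀ q ∈ l, q.Prime) (h : p ∣ l.prod) : p ∈ l := by
  obtain ⟨q, hq, h1⟩ := (Prime.dvd_prod_iff hp.prime).1 h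
  rw [(Nat.prime_dvd_prime_iff_eq hp (hl q hq)).1 h1]
  exact hq

theorem minDeg_of {G : Type*} [Group G] {b : ℕ} (h : Cfsg.Agent.H122.MinDeg G b) : MinDeg G b :=
  fun k ρ hρ hk => h.irr k ρ hρ hk

/-! ### `M11` -/

/-- the inclusion -/
def inc11 : Spor.M11 →* M24 where
  toFun g := ⟨(g : Equiv.Perm GolayPt), g.2.1.1⟩
  map_one' := rfl
  map_mul' _ _ := rfl

theorem inc11_injective : Function.Injective inc11 := by
  intro a b h
  exact Subtype.ext (congrArg (fun g : M24 => (g : Equiv.Perm GolayPt)) h)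

theorem deg11 : MinDeg Spor.M11 10 := by
  have := simple11
  exact minDeg_of (Cfsg.Agent.H121.Cyc.m11 ⟨MulEquiv.refl _⟩)

theorem na11 : ¬ ∀ a b : Spor.M11, a * b = b * a := by
  have := simple11
  exact na_of_card (by rw [card11]; norm_num [n_m11])

theorem base_M11 {p : ℕ} (hp : p.Prime) (hd : p ∣ Nat.card Spor.M11) : PW p 10 Spor.M11 := by
  have := simple11
  rw [card11] at hd
  have h := prime_mem hp [2, 2, 2, 2, 3, 3, 5, 11] (by
    intro q hq
    simp only [List.mem_cons, List.not_mem_nil, or_false] at hq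
    rcases hq with rfl | rfl | rfl | rfl | rfl | rfl | rfl | rfl <;> norm_num) hd
  simp only [List.mem_cons, List.not_mem_nil, or_false] at h
  have h2 : PW 2 10 Spor.M11 := pw_of_cn na11 (r := 5) (k := 3) (by norm_num) (by norm_num)
    (by rw [card11]; norm_num [n_m11]) (fun R => cn11_5) (by norm_num) (by norm_num) deg11 le_rfl (by norm_num) (by norm_num)
  have h5 : PW 5 10 Spor.M11 := pw_of_cn na11 (r := 11) (k := 5) (by norm_num) (by norm_num)
    (by rw [card11]; norm_num [n_m11]) (fun R => cn11_11) (by norm_num) (by norm_num) deg11 (by norm_num) (by norm_num)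
      (by norm_num)
  have h11 : PW 11 10 Spor.M11 := pw_of_self na11 (k := 5) (by norm_num) (by rw [card11]; norm_num [n_m11])
    (fun R => cn11_11) deg11 (by norm_num) (by norm_num) (by norm_num)
  have h3 : PW 3 10 Spor.M11 := by
    obtain ⟨x3, y3, xy⟩ := three_of inc11 inc11_injective (x := ⟨el ca, a12, a0⟩) (y := ⟨el cb, b12, b0⟩) rfl rfl
    exact pw_three na11 (fun R => cn11_11) deg11 (by norm_num) x3 y3 xy
  rcases h with rfl | rfl | rfl | rfl | rfl | rfl | rfl | rfl <;> assumption

/-! ### `M12` -/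

theorem deg12 : MinDeg Spor.M12 10 := by
  have := simple12
  exact minDeg_of (Cfsg.Agent.H121.Cyc.m12 ⟨MulEquiv.refl _⟩)

theorem base_M12 {p : ℕ} (hp : p.Prime) (hd : p ∣ Nat.card Spor.M12) : PW p 10 Spor.M12 := by
  have := simple12
  rw [card12] at hd
  have h := prime_mem hp [2, 2, 2, 2, 2, 2, 3, 3, 3, 5, 11] (by
    intro q hq
    simp only [List.mem_cons, List.not_mem_nil, or_false] at hq
    rcases hq with rfl | rfl | rfl | rfl | rfl | rfl | rfl | rfl | rfl | rfl | rfl <;> norm_num) hd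
  simp only [List.mem_cons, List.not_mem_nil, or_false] at h
  have h2 : PW 2 10 Spor.M12 := pw_of_cn na12 (r := 5) (k := 5) (by norm_num) (by norm_num)
    (by rw [card12]; norm_num [n_m12]) (fun R => cn12_5) (by norm_num) (by norm_num) deg12 (by norm_num) (by norm_num)
      (by norm_num)
  have h5 : PW 5 10 Spor.M12 := pw_of_cn na12 (r := 11) (k := 5) (by norm_num) (by norm_num)
    (by rw [card12]; norm_num [n_m12]) (fun R => cn12_11) (by norm_num) (by norm_num) deg12 (by norm_num) (by norm_num)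
      (by norm_num)
  have h11 : PW 11 10 Spor.M12 := pw_of_self na12 (k := 5) (by norm_num) (by rw [card12]; norm_num [n_m12])
    (fun R => cn12_11) deg12 (by norm_num) (by norm_num) (by norm_num)
  have h3 : PW 3 10 Spor.M12 := by
    obtain ⟨x3, y3, xy⟩ := three_of H729.PairMathieu.inc12 H729.PairMathieu.inc12_injective
      (x := ⟨el ca, a12⟩) (y := ⟨el cb, b12⟩) rfl rfl
    exact pw_three na12 (fun R => cn12_11) deg12 (by norm_num) x3 y3 xy
  rcases h with rfl | rfl | rfl | rfl | rfl | rfl | rfl | rfl | rfl | rfl | rfl <;> assumption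

/-! ### `M22` -/

theorem deg22 : MinDeg Spor.M22 21 := by
  have := simple22
  exact minDeg_of (Cfsg.Agent.H121.Cyc.m22 ⟨MulEquiv.refl _⟩)

theorem base_M22 {p : ℕ} (hp : p.Prime) (hd : p ∣ Nat.card Spor.M22) : PW p 10 Spor.M22 := by
  have := simple22
  rw [card22] at hd
  have h := prime_mem hp [2, 2, 2, 2, 2, 2, 2, 3, 3, 5, 7, 11] (by
    intro q hq
    simp only [List.mem_cons, List.not_mem_nil, or_false] at hq
    rcases hq with rfl | rfl | rfl | rfl | rfl | rfl | rfl | rfl | rfl | rfl | rfl | rfl <;> norm_num) hd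
  simp only [List.mem_cons, List.not_mem_nil, or_false] at h
  have h2 : PW 2 10 Spor.M22 := pw_of_cn na22 (r := 5) (k := 3) (by norm_num) (by norm_num)
    (by rw [card22]; norm_num [n_m22]) (fun R => cn22_5) (by norm_num) (by norm_num) deg22 (by norm_num) (by norm_num)
      (by norm_num)
  have h3 : PW 3 10 Spor.M22 := pw_of_cn na22 (r := 7) (k := 3) (by norm_num) (by norm_num)
    (by rw [card22]; norm_num [n_m22]) (fun R => cn22_7) (by norm_num) (by norm_num) deg22 (by norm_num) (by norm_num)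
      (by norm_num)
  have h5 : PW 5 10 Spor.M22 := pw_of_cn na22 (r := 11) (k := 4) (by norm_num) (by norm_num)
    (by rw [card22]; norm_num [n_m22]) (fun R => cn22_11) (by norm_num) (by norm_num) deg22 (by norm_num) (by norm_num)
      (by norm_num)
  have h7 : PW 7 10 Spor.M22 := pw_of_self na22 (k := 3) (by norm_num) (by rw [card22]; norm_num [n_m22])
    (fun R => cn22_7) deg22 (by norm_num) (by norm_num) (by norm_num)
  have h11 : PW 11 10 Spor.M22 := pw_of_self na22 (k := 4) (by norm_num) (by rw [card22]; norm_num [n_m22])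
    (fun R => cn22_11) deg22 (by norm_num) (by norm_num) (by norm_num)
  rcases h with rfl | rfl | rfl | rfl | rfl | rfl | rfl | rfl | rfl | rfl | rfl | rfl <;> assumption

/-! ### `M23` -/

theorem deg23 : MinDeg Spor.M23 21 := by
  have := simple23
  exact minDeg_of (Cfsg.Agent.H121.Cyc.m23 ⟨MulEquiv.refl _⟩)

theorem base7_M23 : PW 7 4 Spor.M23 := by
  have := simple23
  exact pw_of_self na23 (k := 4) (by norm_num) (by rw [card23]; norm_num [n_m23])
    (fun R => cn23_7) deg23 (by norm_num) (by norm_num) (by norm_num)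

theorem base3_M23 : PW 3 8 Spor.M23 := by
  have := simple23
  exact pw_of_cn na23 (r := 7) (k := 4) (by norm_num) (by norm_num)
    (by rw [card23]; norm_num [n_m23]) (fun R => cn23_7) (by norm_num) (by norm_num) deg23 (by norm_num) (by norm_num)
      (by norm_num)

theorem base_M23 {p : ℕ} (hp : p.Prime) (hd : p ∣ Nat.card Spor.M23) : PW p 10 Spor.M23 := by
  have := simple23
  rw [card23] at hd
  have h := prime_mem hp [2, 2, 2, 2, 2, 2, 2, 3, 3, 5, 7, 11, 23] (by
    intro q hq
    simp only [List.mem_cons, List.not_mem_nil, or_false] at hq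
    rcases hq with rfl | rfl | rfl | rfl | rfl | rfl | rfl | rfl | rfl | rfl | rfl | rfl | rfl <;> norm_num) hd
  simp only [List.mem_cons, List.not_mem_nil, or_false] at h
  have h2 : PW 2 10 Spor.M23 := pw_of_cn na23 (r := 5) (k := 4) (by norm_num) (by norm_num)
    (by rw [card23]; norm_num [n_m23]) (fun R => cn23_5) (by norm_num) (by norm_num) deg23 (by norm_num) (by norm_num)
      (by norm_num)
  have h3 : PW 3 10 Spor.M23 := base3_M23.mono (by norm_num)
  have h5 : PW 5 10 Spor.M23 := pw_of_cn na23 (r := 11) (k := 4) (by norm_num) (by norm_num)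
    (by rw [card23]; norm_num [n_m23]) (fun R => cn23_11) (by norm_num) (by norm_num) deg23 (by norm_num) (by norm_num)
      (by norm_num)
  have h7 : PW 7 10 Spor.M23 := base7_M23.mono (by norm_num)
  have h11 : PW 11 10 Spor.M23 := pw_of_self na23 (k := 4) (by norm_num) (by rw [card23]; norm_num [n_m23])
    (fun R => cn23_11) deg23 (by norm_num) (by norm_num) (by norm_num)
  have h23 : PW 23 10 Spor.M23 := pw_of_self na23 (k := 5) (by norm_num) (by rw [card23]; norm_num [n_m23])
    (fun R => cn23_23) deg23 (by norm_num) (by norm_num) (by norm_num)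
  rcases h with rfl | rfl | rfl | rfl | rfl | rfl | rfl | rfl | rfl | rfl | rfl | rfl | rfl <;> assumption

/-! ### `M24` -/

theorem deg24 : MinDeg M24 21 := by
  have := simple24
  exact minDeg_of (Cfsg.Agent.H121.Cyc.m24 ⟨MulEquiv.refl _⟩)

theorem base_M24 {p : ℕ} (hp : p.Prime) (hd : p ∣ Nat.card M24) : PW p 10 M24 := by
  have := simple24
  rw [card24] at hd
  have h := prime_mem hp [2, 2, 2, 2, 2, 2, 2, 2, 2, 2, 3, 3, 3, 5, 7, 11, 23] (by
    intro q hq
    simp only [List.mem_cons, List.not_mem_nil, or_false] at hq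
    rcases hq with rfl | rfl | rfl | rfl | rfl | rfl | rfl | rfl | rfl | rfl | rfl | rfl | rfl | rfl | rfl | rfl | rfl <;>
      norm_num) hd
  simp only [List.mem_cons, List.not_mem_nil, or_false] at h
  have h2 : PW 2 10 M24 := pw_of_cn na24 (r := 11) (k := 4) (by norm_num) (by norm_num)
    (by rw [card24]; norm_num [n_m24]) (fun R => cn24_11) (by norm_num) (by norm_num) deg24 (by norm_num) (by norm_num)
      (by norm_num)
  have h3 : PW 3 10 M24 := by
    obtain ⟨x3, y3, xy⟩ := three_of (MonoidHom.id M24) Function.injective_id (x := el ca) (y := el cb) rfl rfl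
    exact pw_three na24 (fun R => cn24_11) deg24 (by norm_num) x3 y3 xy
  have h5 : PW 5 10 M24 := pw_of_cn na24 (r := 11) (k := 4) (by norm_num) (by norm_num)
    (by rw [card24]; norm_num [n_m24]) (fun R => cn24_11) (by norm_num) (by norm_num) deg24 (by norm_num) (by norm_num)
      (by norm_num)
  have h7 : PW 7 10 M24 := pw_of_self na24 (k := 6) (by norm_num) (by rw [card24]; norm_num [n_m24])
    (fun R => cn24_7) deg24 (by norm_num) (by norm_num) (by norm_num)
  have h11 : PW 11 10 M24 := pw_of_self na24 (k := 4) (by norm_num) (by rw [card24]; norm_num [n_m24])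
    (fun R => cn24_11) deg24 (by norm_num) (by norm_num) (by norm_num)
  have h23 : PW 23 10 M24 := pw_of_self na24 (k := 5) (by norm_num) (by rw [card24]; norm_num [n_m24])
    (fun R => cn24_23) deg24 (by norm_num) (by norm_num) (by norm_num)
  rcases h with rfl | rfl | rfl | rfl | rfl | rfl | rfl | rfl | rfl | rfl | rfl | rfl | rfl | rfl | rfl | rfl | rfl <;>
    assumption

/-! ### the rows -/

section Rows

variable {S : Type*} [Group S] {p : ℕ}

theorem pw10_M11 (h : Spor.IsoM11 S) (hp : p.Prime) (hd : p ∣ Nat.card S) : PW p 10 S := by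
  obtain ⟨e⟩ := h
  exact (base_M11 hp (by rwa [← Nat.card_congr e.toEquiv])).congr e.symm

theorem pw10_M12 (h : Spor.IsoM12 S) (hp : p.Prime) (hd : p ∣ Nat.card S) : PW p 10 S := by
  obtain ⟨e⟩ := h
  exact (base_M12 hp (by rwa [← Nat.card_congr e.toEquiv])).congr e.symm

theorem pw10_M22 (h : Spor.IsoM22 S) (hp : p.Prime) (hd : p ∣ Nat.card S) : PW p 10 S := by
  obtain ⟨e⟩ := h
  exact (base_M22 hp (by rwa [← Nat.card_congr e.toEquiv])).congr e.symm

theorem pw10_M23 (h : Spor.IsoM23 S) (hp : p.Prime) (hd : p ∣ Nat.card S) : PW p 10 S := by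
  obtain ⟨e⟩ := h
  exact (base_M23 hp (by rwa [← Nat.card_congr e.toEquiv])).congr e.symm

theorem pw10_M24 (h : Spor.IsoM24 S) (hp : p.Prime) (hd : p ∣ Nat.card S) : PW p 10 S := by
  obtain ⟨e⟩ := h
  exact (base_M24 hp (by rwa [← Nat.card_congr e.toEquiv])).congr e.symm

theorem pw3_M23 (h : Spor.IsoM23 S) : PW 3 8 S := by
  obtain ⟨e⟩ := h
  exact base3_M23.congr e.symm

theorem pw7_M23 (h : Spor.IsoM23 S) : PW 7 4 S := by
  obtain ⟨e⟩ := h
  exact base7_M23.congr e.symm

theorem pw_M11 (h : Spor.IsoM11 S) (hp : p.Prime) (hd : p ∣ Nat.card S) : PW p 70 S :=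
  (pw10_M11 h hp hd).mono (by norm_num)

theorem pw_M12 (h : Spor.IsoM12 S) (hp : p.Prime) (hd : p ∣ Nat.card S) : PW p 70 S :=
  (pw10_M12 h hp hd).mono (by norm_num)

theorem pw_M22 (h : Spor.IsoM22 S) (hp : p.Prime) (hd : p ∣ Nat.card S) : PW p 70 S :=
  (pw10_M22 h hp hd).mono (by norm_num)

theorem pw_M23 (h : Spor.IsoM23 S) (hp : p.Prime) (hd : p ∣ Nat.card S) : PW p 70 S :=
  (pw10_M23 h hp hd).mono (by norm_num)

theorem pw_M24 (h : Spor.IsoM24 S) (hp : p.Prime) (hd : p ∣ Nat.card S) : PW p 70 S :=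
  (pw10_M24 h hp hd).mono (by norm_num)

end Rows

end Cfsg.Agent.H813.PwMath
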